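import Groth.Agent.CurveDualLib.DualField
import Groth.Agent.CurveVBLib.Line
import Groth.Agent.CurveVBLib.Slope
import Groth.Agent.CurveAmpLib.Main
import Groth.Agent.AmpleAffLib.Gen
import Groth.Agent.StabLib.Simple
import Groth.Agent.PnCohLib.FlatSections
import Groth.Agent.ParGPLib.Basic
import Groth.Agent.CurveBddLib.Main

/-!
# Serre duality on a smooth curve: forms on first cohomology come from maps to the differentials
-/

set_option autoImplicit false
set_option linter.style.haveILetI false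
set_option maxHeartbeats 1000000
universe u

open CategoryTheory CategoryTheory.Limits AlgebraicGeometry TopologicalSpace Opposite
open DevissLib CurvLib CurveVBLib

noncomputable section

namespace CurveSDLib

theorem surjective_of_finrank_one {K V W : Type*} [Field K] [AddCommGroup V] [Module K V] [AddCommGroup W]
    [Module K W] (f : V →ₗ[K] W) (h1 : Module.finrank K W = 1) (hf : f ≠ 0) : Function.Surjective f := by
  obtain ⟨v, hv⟩ : ∃ v, f v ≠ 0 := by
    by_contra h
    push Not at h
    exact hf (LinearMap.ext h)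
  intro w
  obtain ⟨c, rfl⟩ := exists_smul_eq_of_finrank_eq_one h1 hv w
  exact ⟨c • v, map_smul f c v⟩

variable {X : Scheme.{u}} {k : Type u} [Field k] [X.Over (Spec (CommRingCat.of k))]

/-- The differentials of the curve. -/
abbrev om (k : Type u) [Field k] (X : Scheme.{u}) [X.Over (Spec (CommRingCat.of k))] : X.Modules :=
  Omega.sheaf (X ↘ Spec (CommRingCat.of k))

theorem hMap_zero {M N : X.Modules} (p : ℕ) (x : Coh.HH X M p) : hMap (k := k) (0 : M ⟶ N) p x = 0 := by
  have h := ParGPLib.hMap_add (k := k) (0 : M ⟶ N) 0 p x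
  rw [add_zero] at h
  simpa using h

theorem hMap_finset_sum {M N : X.Modules} {ι : Type*} (s : Finset ι) (φ : ι → (M ⟶ N)) (p : ℕ)
    (x : Coh.HH X M p) : hMap (k := k) (∑ i ∈ s, φ i) p x = ∑ i ∈ s, hMap (k := k) (φ i) p x := by
  classical
  induction s using Finset.induction_on with
  | empty => rw [Finset.sum_empty, Finset.sum_empty, hMap_zero]
  | insert a s ha ih => rw [Finset.sum_insert ha, Finset.sum_insert ha, ParGPLib.hMap_add, ih]

theorem isCoh_biproduct [IsLocallyNoetherian X] : ∀ {m : ℕ} {M : Fin m → X.Modules},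
    (∀ i, Coh.IsCoh (M i)) → Coh.IsCoh (⨁ M)
  | 0, M, _ => DevissLib.isCoh_of_isZero ((IsZero.iff_id_eq_zero _).2 (biproduct.hom_ext _ _ fun i => i.elim0))
  | m + 1, M, hM => by
    have ih := isCoh_biproduct (M := fun i : Fin m => M i.succ) fun i => hM i.succ
    let φ : M 0 ⊞ (⨁ fun i : Fin m => M i.succ) ⟶ ⨁ M :=
      biprod.desc (biproduct.ι M 0) (biproduct.desc fun i => biproduct.ι M i.succ)
    let ψ : (⨁ M) ⟶ M 0 ⊞ (⨁ fun i : Fin m => M i.succ) :=
      biprod.lift (biproduct.π M 0) (biproduct.lift fun i => biproduct.π M i.succ)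
    have h1 : ψ ≫ φ = 𝟙 _ := by
      simp only [ψ, φ, biprod.lift_desc, biproduct.lift_desc]
      rw [← biproduct.total, Fin.sum_univ_succ]
    have h2 : φ ≫ ψ = 𝟙 _ := by
      apply biprod.hom_ext' <;> apply biprod.hom_ext <;> simp [φ, ψ]
      · refine biproduct.hom_ext _ _ fun i => ?_
        simp [biproduct.ι_π_ne _ (Fin.succ_ne_zero i).symm]
      · refine biproduct.hom_ext' _ _ fun i => ?_
        simp [biproduct.ι_π_ne _ (Fin.succ_ne_zero i)]
      · refine biproduct.hom_ext' _ _ fun i => biproduct.hom_ext _ _ fun j => ?_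
        by_cases h : i = j
        · subst h; simp
        · simp [biproduct.ι_π_ne _ h, biproduct.ι_π_ne _ (fun he => h (Fin.succ_injective _ he))]
    exact QCohLib.isCoh_of_iso ⟨φ, ψ, h2, h1⟩ (DevissLib.isCoh_biprod (hM 0) ih)

theorem unitHom_add {M : X.Modules} (x y : Γ(M, (⊤ : X.Opens))) :
    QCohLib.unitHom M (x + y) = QCohLib.unitHom M x + QCohLib.unitHom M y := by
  refine Scheme.Modules.hom_ext _ _ fun U => ConcreteCategory.hom_ext _ _ fun r => ?_
  show (QCohLib.unitHom M (x + y)).app U r = (QCohLib.unitHom M x).app U r + (QCohLib.unitHom M y).app U r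
  change (show Γ(X, U) from r) • M.presheaf.map (homOfLE (le_top : U ≤ ⊤)).op (x + y) =
    (show Γ(X, U) from r) • M.presheaf.map (homOfLE (le_top : U ≤ ⊤)).op x +
      (show Γ(X, U) from r) • M.presheaf.map (homOfLE (le_top : U ≤ ⊤)).op y
  rw [map_add, smul_add]

theorem unitHom_eq_zero {M : X.Modules} (x : Γ(M, (⊤ : X.Opens))) (h : QCohLib.unitHom M x = 0) : x = 0 := by
  have h1 := QCohLib.unitHom_app M x ⊤ 1
  rw [h, one_smul] at h1
  refine Eq.trans ?_ h1.symm
  simp

theorem unitHom_smul {M : X.Modules} (r : Γ(X, (⊤ : X.Opens))) (x : Γ(M, (⊤ : X.Opens))) :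
    QCohLib.unitHom M (r • x) = QCohLib.unitHom M x ≫ StabLib.smulHom M r := by
  rw [QCohLib.app_unitHom_app]
  refine congrArg (QCohLib.unitHom M) ?_
  refine Eq.trans ?_ (StabLib.smulHom_app M r ⊤ x).symm
  exact congrArg (fun t : Γ(X, (⊤ : X.Opens)) => t • x) (AmpleLib.res_refl (M := Coh.structureModule X) r).symm

theorem tensorLeft_smulHom (L M : X.Modules) (c : Coh.Γtop X) :
    (tensorLeft' L).map (StabLib.smulHom M c) = StabLib.smulHom ((tensorLeft' L).obj M) c := by
  refine KFlatLib.tens_hom_ext fun U m n => ?_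
  have h := KFlatLib.tensorBi_map_shApp (𝟙 L) (StabLib.smulHom M c) U m n
  rw [CategoryTheory.Functor.map_id, NatTrans.id_app, Category.id_comp] at h
  refine Eq.trans h ?_
  refine Eq.trans ?_ (StabLib.smulHom_app ((tensorLeft' L).obj M) c U (AmpleLib.shT m n)).symm
  have h2 := AmpleLib.shT_smul (M := L) (N := M) 1 (X.presheaf.map (homOfLE (le_top : U ≤ ⊤)).op (show Γ(X, ⊤) from c)) m n
  simp only [one_smul, one_mul] at h2
  exact h2

theorem smulHom_natural {M N : X.Modules} (φ : M ⟶ N) (r : Coh.Γtop X) :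
    StabLib.smulHom M r ≫ φ = φ ≫ StabLib.smulHom N r := by
  refine Scheme.Modules.hom_ext _ _ fun U => ConcreteCategory.hom_ext _ _ fun m => ?_
  show φ.app U ((StabLib.smulHom M r).app U m) = (StabLib.smulHom N r).app U (φ.app U m)
  rw [StabLib.smulHom_app, StabLib.smulHom_app, QCohLib.app_smul]

variable [IsIntegral X] [IsProper (X ↘ Spec (CommRingCat.of k))] [Smooth (X ↘ Spec (CommRingCat.of k))]
  [GeometricallyConnected (X ↘ Spec (CommRingCat.of k))] (hdim : topologicalKrullDim X = 1)

include hdim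

/-- A map to the differentials is zero when it is zero on first cohomology. -/
theorem eq_zero_of_hMap {F : X.Modules} (hF : Coh.IsCoh F) (φ : F ⟶ om k X)
    (h : ∀ x, hMap (k := k) φ 1 x = 0) : φ = 0 := by
  haveI := CurvLib.isNoetherian k (X := X)
  by_contra hne
  have hΩi := CurveDualLib.omega_invertible_field k X hdim
  have hΩ := CurvLib.locFree_of_isInvertible hΩi
  have hΩc := CurvLib.isCoh_of_locFree hΩ
  have hI := DevissLib.isCoh_image φ hF hΩc
  obtain ⟨-, hC, hrk, -, hz⟩ := sub_data (k := k) hdim hΩ (Abelian.image.ι φ) hI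
  have hI0 : 0 < genRank (Abelian.image φ) := Nat.pos_of_ne_zero fun h0 => hne (by
    rw [← Abelian.image.fac φ, (hz h0).eq_of_src (Abelian.image.ι φ) 0, comp_zero])
  have hC0 : genRank (cokernel (Abelian.image.ι φ)) = 0 := by omega
  letI : Field (X.presheaf.stalk (genericPoint X)) := (inferInstance : Field X.functionField)
  haveI := DevissLib.isNoetherian_stalk hC (genericPoint X)
  have hη : genericPoint X ∉ CohB1.support (cokernel (Abelian.image.ι φ)) := fun hx => hx (
    haveI : Module.Finite (X.presheaf.stalk (genericPoint X))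
        ((cokernel (Abelian.image.ι φ)).presheaf.stalk (genericPoint X)) :=
      inferInstanceAs (Module.Finite _ ((St (genericPoint X)).obj (cokernel (Abelian.image.ι φ))))
    (Module.finrank_zero_iff (R := X.presheaf.stalk (genericPoint X))).mp hC0)
  have hd : topologicalKrullDim (CohB1.support (cokernel (Abelian.image.ι φ))) ≤ 0 :=
    CurvLib.topologicalKrullDim_le_zero_of_lt hdim (QCohLib.isClosed_support _ hC.2)
      (fun he => hη (he ▸ Set.mem_univ _))
  have h1C := ParGPLib.subsingleton_one k hC hd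
  let S₁ : ShortComplex X.Modules :=
    ShortComplex.mk (Abelian.image.ι φ) (cokernel.π (Abelian.image.ι φ)) (cokernel.condition _)
  have hS₁ : S₁.ShortExact :=
    { exact := ShortComplex.exact_of_g_is_cokernel _ (cokernelIsCokernel _)
      mono_f := inferInstanceAs (Mono (Abelian.image.ι φ))
      epi_g := inferInstanceAs (Epi (cokernel.π (Abelian.image.ι φ))) }
  let S₂ : ShortComplex X.Modules := kerImSeq φ
  have hS₂ : S₂.ShortExact := kerImSeq_shortExact φ
  have hdim' : topologicalKrullDim X ≤ (1 : ℕ) := hdim.le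
  have h2K : Subsingleton (Coh.HH X S₂.X₁ 2) := CurveBddLib.vanish_two (k := k) hdim' _ 2 le_rfl
  haveI : Nontrivial (Coh.HH X (om k X) 1) :=
    Module.nontrivial_of_finrank_eq_succ (n := 0) (R := k) (CurveDualLib.h1_omega k X hdim)
  obtain ⟨w, hw⟩ := exists_ne (0 : Coh.HH X (om k X) 1)
  have hw1 : w ∈ LinearMap.ker (hMap (k := k) S₁.g 1) := LinearMap.mem_ker.2 (h1C.elim _ _)
  rw [← exact₂ hS₁ 1] at hw1
  obtain ⟨v, hv⟩ := hw1
  have hv1 : v ∈ LinearMap.ker (hDel (k := k) hS₂ 1) := LinearMap.mem_ker.2 (h2K.elim _ _)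
  rw [← exact₃ hS₂ 1] at hv1
  obtain ⟨x, rfl⟩ := hv1
  apply hw
  rw [← hv, ← h x]
  exact (hMap_comp (Abelian.factorThruImage φ) (Abelian.image.ι φ) 1 x).symm.trans
    (congrArg (fun ψ => hMap (k := k) ψ 1 x) (Abelian.image.fac φ))

/-- For invertible modules the pairing with maps to the differentials is perfect. -/
theorem exists_hom_line {L : X.Modules} (hL : PicF.IsInvertible L)
    (lam : Coh.HH X L 1 →ₗ[k] Coh.HH X (om k X) 1) : ∃ φ : L ⟶ om k X, hMap (k := k) φ 1 = lam := by
  haveI := CurvLib.isNoetherian k (X := X)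
  have hΩi := CurveDualLib.omega_invertible_field k X hdim
  obtain ⟨eL⟩ := MiscFlat6.nonempty_dualIso hL
  let M := CohB1.tensorMod (MiscFlat6.dual L) (om k X)
  have hM : PicF.IsInvertible M := HilbPolyLib.isInvertible_tensor (MiscFlat6.dual_isInvertible hL) hΩi
  have e : CohB1.tensorMod L M ≅ om k X :=
    (HilbPolyLib.assocIso L (MiscFlat6.dual L) _).symm ≪≫ HilbPolyLib.congrLeft eL _ ≪≫ HilbPolyLib.unitLeft _
  have hdimeq := CurveDualLib.h1_eq_h0 k X hdim hL hM e
  haveI : (tensorLeft' L).IsEquivalence := VBP1Lib.isEquivalence_tensor (L := L) (M := MiscFlat6.dual L) eL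
  haveI : (tensorLeft' L).Additive := Functor.additive_of_preserves_binary_products _
  let a : L ⟶ (tensorLeft' L).obj (Coh.structureModule X) :=
    (KFlatLib.tensSwap (Coh.structureModule X) L ≪≫ KFlatLib.tensUnitIso L).inv
  let sec : Coh.HH X M 0 → (Coh.structureModule X ⟶ M) := fun s => QCohLib.unitHom M (DegPullLib.e0 M s)
  let eh : (tensorLeft' L).obj M ⟶ om k X := e.hom
  haveI heh : IsIso eh := inferInstanceAs (IsIso e.hom)
  let toHom : Coh.HH X M 0 → (L ⟶ om k X) := fun s => a ≫ (tensorLeft' L).map (sec s) ≫ eh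
  have hadd : ∀ s t, toHom (s + t) = toHom s + toHom t := fun s t => by
    simp only [toHom, sec, map_add, unitHom_add, Functor.map_add, Preadditive.add_comp,
      Preadditive.comp_add]
  have hsmul : ∀ (c : k) s, toHom (c • s) =
      StabLib.smulHom L (Coh.toGlobal (X ↘ Spec (CommRingCat.of k)) c) ≫ toHom s := fun c s => by
    have h1 : sec (c • s) = sec s ≫ StabLib.smulHom M (Coh.toGlobal (X ↘ Spec (CommRingCat.of k)) c) :=
      (congrArg (QCohLib.unitHom M) (DegPullLib.e0_smul M _ s)).trans (unitHom_smul _ _)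
    simp only [toHom, h1, Functor.map_comp, tensorLeft_smulHom, Category.assoc]
    rw [smulHom_natural eh]
    simp only [← Category.assoc]
    rw [← smulHom_natural, Category.assoc, Category.assoc]
    simp only [Category.assoc]
  have hinj : ∀ s, toHom s = 0 → s = 0 := fun s hs => by
    have ha : IsIso a := by dsimp only [a]; infer_instance
    have h1 : (tensorLeft' L).map (sec s) = 0 := by
      rw [← cancel_epi a, ← cancel_mono eh, Category.assoc]
      simpa [toHom] using hs
    have h2 : sec s = 0 := (tensorLeft' L).map_injective (h1.trans (Functor.map_zero _ _ _).symm)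
    exact (DegPullLib.e0 M).injective ((unitHom_eq_zero _ h2).trans (map_zero _).symm)
  let Φ : Coh.HH X M 0 →ₗ[k] (Coh.HH X L 1 →ₗ[k] Coh.HH X (om k X) 1) :=
    { toFun := fun s => hMap (k := k) (toHom s) 1
      map_add' := fun s t => LinearMap.ext fun x => by rw [hadd]; exact ParGPLib.hMap_add _ _ _ _
      map_smul' := fun c s => LinearMap.ext fun x => by
        rw [hsmul, hMap_comp, RingHom.id_apply, LinearMap.smul_apply, ← map_smul]
        rfl }
  have hΦ : Function.Injective Φ := (injective_iff_map_eq_zero Φ).2 fun s hs =>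
    hinj s (eq_zero_of_hMap hdim (CurvLib.isCoh_of_isInvertible hL) _ fun x => LinearMap.congr_fun hs x)
  haveI := finite_HH (k := k) (CurvLib.isCoh_of_isInvertible hM) 0
  haveI := finite_HH (k := k) (CurvLib.isCoh_of_isInvertible hL) 1
  haveI := finite_HH (k := k) (CurvLib.isCoh_of_isInvertible hΩi) 1
  have hfin : Module.finrank k (Coh.HH X M 0) =
      Module.finrank k (Coh.HH X L 1 →ₗ[k] Coh.HH X (om k X) 1) := by
    rw [Module.finrank_linearMap, CurveDualLib.h1_omega k X hdim, mul_one, hdimeq]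
  obtain ⟨s, hs⟩ := (LinearMap.injective_iff_surjective_of_finrank_eq_finrank hfin).1 hΦ lam
  exact ⟨toHom s, hs⟩

/-- Every form on the first cohomology of a coherent module comes from a map to the differentials. -/
theorem exists_hom {E : X.Modules} (hE : Coh.IsCoh E)
    (lam : Coh.HH X E 1 →ₗ[k] Coh.HH X (om k X) 1) : ∃ φ : E ⟶ om k X, hMap (k := k) φ 1 = lam := by
  classical
  haveI := CurvLib.isNoetherian k (X := X)
  haveI : X.IsSeparated := ⟨by
    rw [Subsingleton.elim (terminal.from X) ((X ↘ Spec (CommRingCat.of k)) ≫ terminal.from _)]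
    infer_instance⟩
  obtain ⟨A, hA⟩ := CurveAmpLib.exists_ample (X := X) hdim.le
  haveI := hE.1
  choose n s hxs hsa using hA.2.2
  have hinv : ∀ x, PicF.IsInvertible (CohB1.tensorPow A (n x + 1)) := fun x =>
    AmpleThLib.tensorPow_isInvertible hA.1 (n x + 1)
  obtain ⟨m, x, N, π, -, hπ⟩ := AmpleAffLib.exists_epi_biproduct hinv _
    (fun x => (AmpleThLib.genLocus_hom (hinv x) (s x)) ▸ hxs x)
    (fun x => (AmpleThLib.genLocus_hom (hinv x) (s x)) ▸ hsa x) E hE.2
  haveI := hπ
  let P : Fin m → X.Modules := fun a => MiscFlat6.dual (CohB1.tensorPow (CohB1.tensorPow A (n (x a) + 1)) (N a))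
  have hP : ∀ a, PicF.IsInvertible (P a) := fun a =>
    MiscFlat6.dual_isInvertible (AmpleThLib.tensorPow_isInvertible (hinv (x a)) (N a))
  choose ψ hψ using fun a => exists_hom_line (k := k) hdim (hP a)
    (lam.comp (hMap (k := k) (biproduct.ι P a ≫ π) 1))
  let Ψ : (⨁ P) ⟶ om k X := biproduct.desc ψ
  have hΨ : ∀ y, hMap (k := k) Ψ 1 y = lam (hMap (k := k) π 1 y) := fun y => by
    have hy : y = ∑ a, hMap (k := k) (biproduct.ι P a) 1 (hMap (k := k) (biproduct.π P a) 1 y) := by
      refine ((ParGPLib.hMap_id_apply (k := k) 1 y).symm.trans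
        (congrArg (fun f => hMap (k := k) f 1 y) (biproduct.total (f := P)).symm)).trans ?_
      rw [hMap_finset_sum]
      exact Finset.sum_congr rfl fun a _ => hMap_comp _ _ _ _
    rw [hy, map_sum, map_sum, map_sum]
    refine Finset.sum_congr rfl fun a _ => ?_
    rw [← hMap_comp (biproduct.ι P a) Ψ, biproduct.ι_desc, hψ]
    exact congrArg lam (hMap_comp _ _ _ _)
  let S : ShortComplex X.Modules := ShortComplex.mk (kernel.ι π) π (kernel.condition π)
  have hS : S.ShortExact := ShortComplex.ShortExact.mk (ShortComplex.exact_kernel π)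
  have hW : Coh.IsCoh (⨁ P) := isCoh_biproduct fun a => CurvLib.isCoh_of_isInvertible (hP a)
  have hK := QCohLib.isCoh_kernel π hW hE.1
  have hzero : kernel.ι π ≫ Ψ = 0 := eq_zero_of_hMap hdim hK _ fun z => by
    rw [hMap_comp, hΨ, ← hMap_comp, kernel.condition, hMap_zero, map_zero]
  let φ : E ⟶ om k X := hS.exact.desc Ψ hzero
  refine ⟨φ, LinearMap.ext fun z => ?_⟩
  have hdim' : topologicalKrullDim X ≤ (1 : ℕ) := hdim.le
  have h2 : Subsingleton (Coh.HH X S.X₁ 2) := CurveBddLib.vanish_two (k := k) hdim' _ 2 le_rfl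
  have hz : z ∈ LinearMap.ker (hDel (k := k) hS 1) := LinearMap.mem_ker.2 (h2.elim _ _)
  rw [← exact₃ hS 1] at hz
  obtain ⟨y, rfl⟩ := hz
  rw [← hΨ y, ← hMap_comp]
  exact congrArg (fun f => hMap (k := k) f 1 y) (hS.exact.g_desc Ψ hzero)

/-- Nonvanishing first cohomology gives a nonzero map to the differentials. -/
theorem exists_ne_zero {E : X.Modules} (hE : Coh.IsCoh E) (h : ¬ Subsingleton (Coh.HH X E 1)) :
    ∃ φ : E ⟶ om k X, φ ≠ 0 := by
  haveI := CurvLib.isNoetherian k (X := X)
  haveI := finite_HH (k := k) hE 1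
  rw [not_subsingleton_iff_nontrivial] at h
  haveI := h
  haveI : Nontrivial (Coh.HH X (om k X) 1) :=
    Module.nontrivial_of_finrank_eq_succ (n := 0) (R := k) (CurveDualLib.h1_omega k X hdim)
  obtain ⟨w, hw⟩ := exists_ne (0 : Coh.HH X (om k X) 1)
  obtain ⟨v, hv⟩ := exists_ne (0 : Coh.HH X E 1)
  obtain ⟨f, hf⟩ := Module.Projective.exists_dual_ne_zero k hv
  obtain ⟨φ, hφ⟩ := exists_hom (k := k) hdim hE ((LinearMap.toSpanSingleton k _ w).comp f)
  refine ⟨φ, fun h0 => ?_⟩
  have h1 := LinearMap.congr_fun hφ v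
  rw [h0, hMap_zero, LinearMap.comp_apply, LinearMap.toSpanSingleton_apply] at h1
  exact smul_ne_zero hf hw h1.symm

end CurveSDLib

end
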