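import Groth.Agent.CurveSDLib.Main
import Groth.Agent.GenusZeroLib.PointIdeal
import Groth.Agent.RRVanLib.GG
import Groth.Agent.HurwitzLib.SmoothCurve
import Groth.Agent.PerfCompLib.Theta

/-!
# Vanishing and global generation for bundles of large slope
-/

set_option autoImplicit false
set_option linter.style.haveILetI false
set_option maxHeartbeats 1000000
universe u

open CategoryTheory CategoryTheory.Limits AlgebraicGeometry TopologicalSpace Opposite
open scoped TensorProduct
open DevissLib CurvLib CurveVBLib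

noncomputable section

namespace CurveSDLib

theorem nontrivial_tensor_of_local {R C Q : Type*} [CommRing R] [IsLocalRing R] [AddCommGroup C] [Module R C]
    [Module.Finite R C] [Nontrivial C] [AddCommGroup Q] [Module R Q] [Nontrivial Q] (π : R →ₗ[R] Q)
    (hπ : Function.Surjective π) : Nontrivial (C ⊗[R] Q) := by
  have hker : LinearMap.ker π ≤ IsLocalRing.maximalIdeal R := by
    refine IsLocalRing.le_maximalIdeal fun h => not_subsingleton Q ⟨fun a b => ?_⟩
    obtain ⟨x, rfl⟩ := hπ a
    obtain ⟨y, rfl⟩ := hπ b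
    rw [LinearMap.ker_eq_top.mp h]
    rfl
  let g : Q →ₗ[R] IsLocalRing.ResidueField R :=
    (Submodule.liftQ (LinearMap.ker π) (Algebra.linearMap R (IsLocalRing.ResidueField R))
      fun x hx => LinearMap.mem_ker.mpr ((Ideal.Quotient.eq_zero_iff_mem).mpr (hker hx))).comp
      (LinearMap.quotKerEquivOfSurjective π hπ).symm.toLinearMap
  have hg : Function.Surjective g := fun y => by
    obtain ⟨r, rfl⟩ := Ideal.Quotient.mk_surjective y
    exact ⟨π r, by simp [g]; rfl⟩
  by_contra h
  rw [not_nontrivial_iff_subsingleton] at h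
  haveI := h
  have h1 : Subsingleton (C ⊗[R] IsLocalRing.ResidueField R) := (LinearMap.lTensor_surjective C hg).subsingleton
  have h2 : Subsingleton (IsLocalRing.ResidueField R ⊗[R] C) :=
    (TensorProduct.comm R C (IsLocalRing.ResidueField R)).symm.toEquiv.subsingleton
  exact not_subsingleton C (IsLocalRing.subsingleton_tensorProduct.mp h2)

variable {X : Scheme.{u}}

theorem swap_natural {E E' : X.Modules} (φ : E ⟶ E') (O : X.Modules) :
    ((DCoh.tensorBi (X := X)).map φ).app O ≫ (KFlatLib.tensSwap O E').hom =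
      (KFlatLib.tensSwap O E).hom ≫ ((DCoh.tensorBi (X := X)).obj O).map φ :=
  (DCoh.shP.map_comp _ _).symm.trans ((congrArg DCoh.shP.map
    (BraidedCategory.braiding_naturality_left (DCoh.toP.map φ) (DCoh.toP.obj O))).trans (DCoh.shP.map_comp _ _))

/-- `E ≅ E ⊗ O`, naturally. -/
def unitR (E : X.Modules) : E ≅ (tensorLeft' E).obj (Coh.structureModule X) :=
  (PerfCompLib.tensUnitNat.app E).symm ≪≫ (KFlatLib.tensSwap (Coh.structureModule X) E).symm

theorem unitR_natural {E E' : X.Modules} (φ : E ⟶ E') :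
    φ ≫ (unitR E').hom = (unitR E).hom ≫ ((DCoh.tensorBi (X := X)).map φ).app (Coh.structureModule X) := by
  have h1 := (PerfCompLib.tensUnitNat (X := X)).inv.naturality φ
  have h2 := swap_natural φ (Coh.structureModule X)
  let Tφ := ((DCoh.tensorBi (X := X)).map φ).app (Coh.structureModule X)
  let sE := KFlatLib.tensSwap (Coh.structureModule X) E
  let sE' := KFlatLib.tensSwap (Coh.structureModule X) E'
  have h3 : ((DCoh.tensorBi (X := X)).obj (Coh.structureModule X)).map φ ≫ sE'.inv = sE.inv ≫ Tφ := by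
    rw [Iso.comp_inv_eq, Category.assoc, h2, Iso.inv_hom_id_assoc]
  show φ ≫ PerfCompLib.tensUnitNat.inv.app E' ≫ sE'.inv = (PerfCompLib.tensUnitNat.inv.app E ≫ sE.inv) ≫ Tφ
  rw [Category.assoc, ← h3, ← Category.assoc, ← Category.assoc]
  exact congrArg (· ≫ sE'.inv) h1

variable {k : Type u} [Field k] [X.Over (Spec (CommRingCat.of k))] [IsIntegral X]
  [IsProper (X ↘ Spec (CommRingCat.of k))] [Smooth (X ↘ Spec (CommRingCat.of k))]
  [GeometricallyConnected (X ↘ Spec (CommRingCat.of k))] (hdim : topologicalKrullDim X = 1)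

include hdim

/-- Vanishing from a bound on the subbundles of corank one. -/
theorem vanish_twist {r : ℕ} {E : X.Modules} (hE : FlatMod.IsFinLocFreeOfRank r E) {N : X.Modules}
    (hN : PicF.IsInvertible N) (β : ℤ)
    (hK : ∀ (G : X.Modules) (j : G ⟶ E), Mono j → Coh.IsCoh G → genRank G + 1 = r → dg k G * (r : ℤ) ≤ β)
    (hbig : (r : ℤ) * (2 * (Curv2.genus k X : ℤ) - 2 - Curv2.deg k X N 1) < (r : ℤ) * dg k E - β) :
    Subsingleton (Coh.HH X (CohB1.tensorMod E N) 1) := by
  haveI := CurvLib.isNoetherian k (X := X)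
  by_contra h
  have hEc := isCoh_of_locFree hE
  have hΩi := CurveDualLib.omega_invertible_field k X hdim
  obtain ⟨φ, hφ⟩ := exists_ne_zero (k := k) hdim (SerreVanLib.isCoh_tensor hEc hN) h
  obtain ⟨eN⟩ := MiscFlat6.nonempty_dualIso hN
  let M := CohB1.tensorMod (MiscFlat6.dual N) (om k X)
  have hM : PicF.IsInvertible M := HilbPolyLib.isInvertible_tensor (MiscFlat6.dual_isInvertible hN) hΩi
  let e : (tensorLeft' N).obj M ≅ om k X :=
    (HilbPolyLib.assocIso N (MiscFlat6.dual N) _).symm ≪≫ HilbPolyLib.congrLeft eN _ ≪≫ HilbPolyLib.unitLeft _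
  haveI : (tensorLeft' N).IsEquivalence := VBP1Lib.isEquivalence_tensor (L := N) (M := MiscFlat6.dual N) eN
  let sw : (tensorLeft' N).obj E ≅ CohB1.tensorMod E N := KFlatLib.tensSwap E N
  obtain ⟨ψ, hψ⟩ := (tensorLeft' N).map_surjective (sw.hom ≫ φ ≫ e.inv)
  have hψ0 : ψ ≠ 0 := fun h0 => hφ (by
    haveI : (tensorLeft' N).Additive := Functor.additive_of_preserves_binary_products _
    rw [h0, Functor.map_zero] at hψ
    rw [← cancel_epi sw.hom, ← cancel_mono e.inv, Category.assoc]
    simpa using hψ.symm)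
  have hM1 := locFree_of_isInvertible hM
  have hMc := isCoh_of_locFree hM1
  obtain ⟨hKc, hI, hrk, hdg⟩ := ker_im_data (k := k) hEc hMc ψ
  obtain ⟨-, hC, hrk1, hdg1, hzI⟩ := sub_data (k := k) hdim hM1 (Abelian.image.ι ψ) hI
  have hI0 : 0 < genRank (Abelian.image ψ) := Nat.pos_of_ne_zero fun h0 => hψ0 (by
    rw [← Abelian.image.fac ψ, (hzI h0).eq_of_src (Abelian.image.ι ψ) 0, comp_zero])
  obtain ⟨hnn, -⟩ := dg_nonneg_of_rank_zero (k := k) hdim hC (by omega)
  rw [genRank_eq hE] at hrk
  have hb := hK (kernel ψ) (kernel.ι ψ) inferInstance hKc (by omega)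
  have hdM : dg k M = 2 * (Curv2.genus k X : ℤ) - 2 - Curv2.deg k X N 1 := by
    have h1 := GenusZeroLib.deg_tensor k hdim hN hM
    have h2 : Curv2.deg k X (CohB1.tensorMod N M) 1 = Curv2.deg k X (om k X) 1 := by
      simp only [Curv2.deg]
      rw [show Curv2.euler k X (CohB1.tensorMod N M) = _ from CurvLib.euler_congr (k := k) e]
    rw [← deg_eq_dg hM1]
    rw [h2, CurveDualLib.deg_omega k X hdim] at h1
    omega
  have hr : (0 : ℤ) ≤ (r : ℤ) := Int.natCast_nonneg r
  rw [← hdM, hdg1] at hbig
  rw [hdg] at hbig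
  nlinarith [mul_nonneg hr hnn]

omit [GeometricallyConnected (X ↘ Spec (CommRingCat.of k))] in
theorem sub_bound {r : ℕ} {E : X.Modules} (hE : FlatMod.IsFinLocFreeOfRank r E) {B c : ℤ}
    (h : ∀ (G : X.Modules) (n : ℕ) (j : G ⟶ E), Mono j → 0 < n → n < r → FlatMod.IsFinLocFreeOfRank n G →
      Curv2.deg k X G n * (r : ℤ) ≤ B * (n : ℤ) - c) (hc : r = 1 → c ≤ 0)
    (G : X.Modules) (j : G ⟶ E) (hj : Mono j) (hG : Coh.IsCoh G) (hr : genRank G + 1 = r) :
    dg k G * (r : ℤ) ≤ B * ((r : ℤ) - 1) - c := by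
  obtain ⟨hGr, -, -, -, hz⟩ := sub_data (k := k) hdim hE j hG
  rcases Nat.eq_zero_or_pos (genRank G) with h0 | hpos
  · obtain rfl : r = 1 := by omega
    rw [dg_of_isZero (hz h0)]
    have := hc rfl
    push_cast
    omega
  · have h1 := h G (genRank G) j hj hpos (by omega) hGr
    rw [deg_eq_dg hGr] at h1
    have e : (genRank G : ℤ) = (r : ℤ) - 1 := by omega
    rwa [e] at h1

/-- Vanishing of the twist by the structure module. -/
theorem vanish {r : ℕ} {E : X.Modules} (hE : FlatMod.IsFinLocFreeOfRank r E) (β : ℤ)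
    (hK : ∀ (G : X.Modules) (j : G ⟶ E), Mono j → Coh.IsCoh G → genRank G + 1 = r → dg k G * (r : ℤ) ≤ β)
    (hbig : (r : ℤ) * (2 * (Curv2.genus k X : ℤ) - 2) < (r : ℤ) * dg k E - β) :
    Subsingleton (Coh.HH X E 1) := by
  have h0 : Curv2.deg k X (Coh.structureModule X) 1 = 0 := by rw [Curv2.deg]; push_cast; ring
  have h1 := vanish_twist hdim hE CurvLib.isInvertible_structureModule β hK (by rw [h0, sub_zero]; exact hbig)
  exact (CurvLib.hIso (k := k) (unitR E) 1).toEquiv.subsingleton_congr.mpr h1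

/-- A map killing all sections restricts to zero on a finite subscheme with liftable sections. -/
theorem isZero_resD {r : ℕ} {E C : X.Modules} (hE : FlatMod.IsFinLocFreeOfRank r E) (hC : Coh.IsCoh C)
    (φ : E ⟶ C) [Epi φ] (I : X.IdealSheafData)
    (hd : ∀ M : X.Modules, topologicalKrullDim (CohB1.support (ParSh.resD I M)) ≤ 0)
    (hzero : ∀ y : Coh.HH X E 0, hMap (k := k) φ 0 y = 0)
    (hsurjE : Function.Surjective (hMap (k := k) ((idealSeq I).map (tensorLeft' E)).g 0)) :
    IsZero (ParSh.resD I C) := by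
  haveI := CurvLib.isNoetherian k (X := X)
  have hEc := isCoh_of_locFree hE
  let q : ParSh.resD I E ⟶ ParSh.resD I (C) :=
    (ParGPLib.tensorRight' (ClSub.quotMod I)).map (φ)
  haveI := ParGPLib.isLeftAdjoint_tensorRight' (ClSub.quotMod I)
  haveI : Epi q := Functor.map_epi _ _
  have hCI := ParGPLib.isCoh_resD I hC
  have hq := ParGPLib.surjective_hMap_epi (k := k) q (ParGPLib.isCoh_resD I hEc) (hd E) hCI
  let gE := ((idealSeq I).map (tensorLeft' E)).g
  let gC := ((idealSeq I).map (tensorLeft' C)).g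
  have hsq : gE ≫ q = ((DCoh.tensorBi (X := X)).map φ).app (idealSeq I).X₂ ≫ gC :=
    ((DCoh.tensorBi (X := X)).map φ).naturality (idealSeq I).g
  have hgE : Function.Surjective (hMap (k := k) gE 0) := hsurjE
  have hu : Function.Surjective (hMap (k := k) ((unitR E).hom : E ⟶ ((idealSeq I).map (tensorLeft' E)).X₂) 0) :=
    (CurvLib.hIso (k := k) (unitR E) 0).surjective
  let uE : E ⟶ ((idealSeq I).map (tensorLeft' E)).X₂ := (unitR E).hom
  let uC : C ⟶ ((idealSeq I).map (tensorLeft' C)).X₂ := (unitR C).hom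
  have e : uE ≫ gE ≫ q = φ ≫ uC ≫ gC :=
    (congrArg (uE ≫ ·) hsq).trans ((Category.assoc _ _ _).symm.trans
      ((congrArg (· ≫ gC) (unitR_natural φ).symm).trans (Category.assoc _ _ _)))
  have key : ∀ y, hMap (k := k) (uE ≫ gE ≫ q) 0 y = 0 := fun y => by
    rw [e]
    exact (hMap_comp φ (uC ≫ gC) 0 y).trans ((congrArg _ (hzero y)).trans (map_zero _))
  have hall : ∀ w : Coh.HH X (ParSh.resD I C) 0, w = 0 := fun w => by
    obtain ⟨v, rfl⟩ := hq w
    obtain ⟨u', rfl⟩ := hgE v
    obtain ⟨y, rfl⟩ := hu u'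
    exact ((hMap_comp uE (gE ≫ q) 0 y).trans (hMap_comp gE q 0 _)).symm.trans (key y)
  haveI : Subsingleton (Coh.HH X (ParSh.resD I C) 0) := ⟨fun a b => (hall a).trans (hall b).symm⟩
  exact CurvLib.isZero_of_h0 (k := k) hCI (hd _) Module.finrank_zero_of_subsingleton

omit [Field k] [X.Over (Spec (CommRingCat.of k))] [IsProper (X ↘ Spec (CommRingCat.of k))] [Smooth (X ↘ Spec (CommRingCat.of k))]
  [GeometricallyConnected (X ↘ Spec (CommRingCat.of k))] hdim in
/-- A coherent module with zero fibre at a point of the subscheme of its ideal has zero stalk there. -/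
theorem false_of_fibre [IsLocallyNoetherian X] {C : X.Modules} (hC : Coh.IsCoh C) (I : X.IdealSheafData) (x : X)
    (hxC : x ∈ CohB1.support C) (hR : IsZero (ParSh.resD I C))
    (hQ : ¬ Subsingleton ((St x).obj (ClSub.quotMod I))) : False := by
  -- but the stalk at the point is nonzero
  let R := X.presheaf.stalk x
  haveI hsC : Nontrivial ((St x).obj (C)) := not_subsingleton_iff_nontrivial.mp hxC
  haveI := DevissLib.isNoetherian_stalk hC x
  haveI hsQ : Nontrivial ((St x).obj (ClSub.quotMod I)) := not_subsingleton_iff_nontrivial.mp hQ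
  have hstalk : Subsingleton ((St x).obj (C) ⊗[R] (St x).obj (ClSub.quotMod I)) :=
    haveI : Subsingleton ((St x).obj (KFlatLib.tens C (ClSub.quotMod I))) :=
      ModuleCat.subsingleton_of_isZero ((St x).map_isZero hR)
    let e := LinearEquiv.ofBijective (KFlatLib.stalkTensorLin C (ClSub.quotMod I) x)
      (KFlatLib.stalkTensorLin_bijective C (ClSub.quotMod I) x)
    ⟨fun a b => e.injective (Subsingleton.elim (α := (St x).obj (KFlatLib.tens C (ClSub.quotMod I))) _ _)⟩
  haveI : Module.Finite R ((St x).obj (C)) := inferInstance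
  haveI : Epi (ClSub.toSubscheme I) := CurvLib.epi_toSubscheme I
  have hpi : Function.Surjective ((St x).map (ClSub.toSubscheme I)) :=
    (ModuleCat.epi_iff_surjective _).mp inferInstance
  have := nontrivial_tensor_of_local (C := (St x).obj (C))
    (((St x).map (ClSub.toSubscheme I)).hom.comp (stalkStructureEquiv x).symm.toLinearMap)
    (hpi.comp (stalkStructureEquiv x).symm.surjective)
  exact false_of_nontrivial_of_subsingleton ((St x).obj (C) ⊗[R] (St x).obj (ClSub.quotMod I))



/-- A map killing all sections kills the fibre at a point where the twist down has no first cohomology. -/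
theorem subsingleton_stalk [IsAlgClosed k] {r : ℕ} {E C : X.Modules} (hE : FlatMod.IsFinLocFreeOfRank r E)
    (hC : Coh.IsCoh C) (φ : E ⟶ C) [Epi φ] {x : X} (hx : IsClosed ({x} : Set X))
    (hzero : ∀ y : Coh.HH X E 0, hMap (k := k) φ 0 y = 0)
    (hvan : ∀ N : X.Modules, PicF.IsInvertible N → Curv2.deg k X N 1 = -1 →
      Subsingleton (Coh.HH X (CohB1.tensorMod E N) 1)) (hxC : x ∈ CohB1.support C) : False := by
  haveI := CurvLib.isNoetherian k (X := X)
  have hEc := isCoh_of_locFree hE
  haveI := HurwitzLib.dvr_stalk_closed (k := k) hdim hx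
  obtain ⟨L, ⟨eL⟩, hL, hLd⟩ := GenusZeroLib.exists_idealMod_iso (k := k) hx hdim
  have hres : (letI : Algebra k (X.residueField x) := Curv2.resAlgebra k X x;
      Module.finrank k (X.residueField x)) = 1 := by
    letI : Algebra k (X.residueField x) := Curv2.resAlgebra k X x
    haveI := HurwitzLib.finite_residueField (k := k) hx
    exact ((LinearEquiv.ofBijective (Algebra.linearMap k (X.residueField x))
      IsAlgClosed.algebraMap_bijective_of_isIntegral).finrank_eq).symm.trans (Module.finrank_self k)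
  rw [hres, Nat.cast_one] at hLd
  let I := GenusZeroLib.ptIdeal hx
  let T := (idealSeq I).map (tensorLeft' E)
  have hT : T.ShortExact := shortExact_tensor_locFree hE (idealSeq_shortExact I)
  have h1T : Subsingleton (Coh.HH X T.X₁ 1) :=
    (CurvLib.hIso (k := k) ((tensorLeft' E).mapIso eL) 1).toEquiv.subsingleton_congr.mp (hvan L hL hLd)
  have hsurjE : Function.Surjective (hMap (k := k) T.g 0) := fun y => by
    have hy : y ∈ LinearMap.ker (hDel (k := k) hT 0) := LinearMap.mem_ker.2 (h1T.elim _ _)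
    rw [← exact₃ hT 0] at hy
    exact hy
  have hzI : (I.support : Set X) = {x} := by
    rw [Scheme.IdealSheafData.coe_support_vanishingIdeal]
    rfl
  have hd : ∀ M : X.Modules, topologicalKrullDim (CohB1.support (ParSh.resD I M)) ≤ 0 := fun M => by
    refine (Topology.IsEmbedding.inclusion ((ParGPLib.support_resD I M).trans hzI.le)).isInducing.topologicalKrullDim_le.trans ?_
    exact topologicalKrullDim_zero_of_discreteTopology ({x} : Set X)
  -- the restriction of the cokernel to the point
  have hR : IsZero (ParSh.resD I C) := isZero_resD hdim hE hC φ I hd hzero hsurjE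
  refine false_of_fibre hC I x hxC hR fun hs => ?_
  have hQ0 : IsZero (ClSub.quotMod I) := DevissLib.isZero_of_support_empty
    (Set.eq_empty_of_forall_notMem fun y hy => by
      obtain rfl : y = x := hzI.le (CurvLib.support_quotMod_subset I hy)
      exact hy hs)
  haveI : IsIso (idealSeq I).f := (idealSeq_shortExact I).isIso_f_iff.mpr hQ0
  have h1 := CurvLib.euler_congr (k := k) (eL ≪≫ @asIso _ _ _ _ (idealSeq I).f this)
  have h2 := hLd
  simp only [Curv2.deg] at h2
  rw [h1] at h2
  push_cast at h2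
  simp [idealSeq] at h2

/-- A bundle whose twists down by points have no first cohomology is globally generated. -/
theorem globallyGenerated [IsAlgClosed k] {r : ℕ} {E : X.Modules} (hE : FlatMod.IsFinLocFreeOfRank r E)
    (hvan : ∀ N : X.Modules, PicF.IsInvertible N → Curv2.deg k X N 1 = -1 →
      Subsingleton (Coh.HH X (CohB1.tensorMod E N) 1)) :
    Curv2.IsGloballyGenerated E := by
  classical
  haveI := CurvLib.isNoetherian k (X := X)
  have hEc := isCoh_of_locFree hE
  let P : X.Modules := SheafOfModules.free (R := X.ringCatSheaf) Γ(E, ⊤)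
  let p : P ⟶ E :=
    E.freeHomEquiv.symm fun s => QCohLib.toSections E s
  refine ⟨Γ(E, ⊤), p, ?_⟩
  have hfree : Coh.IsQCoh (SheafOfModules.free (R := X.ringCatSheaf) Γ(E, ⊤)) :=
    QCohLib.isQCoh_sigma (fun _ : Γ(E, ⊤) => Coh.structureModule X) (fun _ => QCohLib.isQCoh_unit)
  have hC : Coh.IsCoh (cokernel p) := QCohLib.isCoh_cokernel p hfree hEc
  have hp : ∀ σ : Γ(E, ⊤), QCohLib.unitHom E σ ≫ cokernel.π p = 0 := fun σ => by
    have hσ : (show Coh.structureModule X ⟶ P from SheafOfModules.ιFree (R := X.ringCatSheaf) σ) ≫ p =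
        QCohLib.unitHom E σ := QCohLib.ιFree_comp (fun s : Γ(E, ⊤) => s) σ
    rw [← hσ, Category.assoc, cokernel.condition, comp_zero]
  have hzero : ∀ x : Coh.HH X E 0, hMap (k := k) (cokernel.π p) 0 x = 0 := by
    intro x
    apply (DegPullLib.e0 (cokernel p)).injective
    rw [map_zero]
    refine (RRVanLib.e0_map (k := k) (cokernel.π p) x).trans ?_
    have h1 := hp (DegPullLib.e0 E x)
    rw [QCohLib.app_unitHom_app] at h1
    exact unitHom_eq_zero _ h1
  refine Abelian.epi_of_cokernel_π_eq_zero p ?_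
  suffices hz : IsZero (cokernel p) from hz.eq_of_tgt _ _
  by_contra hnz
  obtain ⟨z, hz⟩ : (CohB1.support (cokernel p)).Nonempty := by
    rw [Set.nonempty_iff_ne_empty]
    exact fun he => hnz (DevissLib.isZero_of_support_empty he)
  obtain ⟨x, hxs, hx⟩ : ∃ x ∈ closure ({z} : Set X), IsClosed ({x} : Set X) :=
    (isClosed_closure (s := ({z} : Set X))).exists_closed_singleton (Set.singleton_nonempty z).closure
  have hxC : x ∈ CohB1.support (cokernel p) :=
    closure_minimal (Set.singleton_subset_iff.mpr hz) (QCohLib.isClosed_support _ hC.2) hxs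
  exact subsingleton_stalk hdim hE hC (cokernel.π p) hx hzero hvan hxC

end CurveSDLib

end
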