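import Groth.Agent.CurveSDLib.Apps
import Groth.Agent.HopfIneqLib.Sections
import Mathlib.Algebra.Order.Floor.Ring

/-!
# Sections of semistable bundles
-/

set_option autoImplicit false
set_option linter.style.haveILetI false
set_option maxHeartbeats 1000000
universe u

open CategoryTheory CategoryTheory.Limits AlgebraicGeometry TopologicalSpace Opposite
open DevissLib CurvLib CurveVBLib

noncomputable section

namespace CurveSDLib

variable {X : Scheme.{u}} {k : Type u} [Field k] [IsAlgClosed k] [X.Over (Spec (CommRingCat.of k))] [IsIntegral X]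
  [IsProper (X ↘ Spec (CommRingCat.of k))] [Smooth (X ↘ Spec (CommRingCat.of k))]
  (hdim : topologicalKrullDim X = 1)

include hdim

omit [IsAlgClosed k] in
/-- Twists of negative degree of a semistable bundle have no sections. -/
theorem finrank_h0_eq_zero {r : ℕ} {G : X.Modules} (hG : FlatMod.IsFinLocFreeOfRank r G)
    (hss : ModFun.IsSlopeSemistable k X G r) {N : X.Modules} (hN : PicF.IsInvertible N)
    (hneg : Curv2.deg k X G r + (r : ℤ) * Curv2.deg k X N 1 < 0) :
    Module.finrank k (Coh.HH X (CohB1.tensorMod G N) 0) = 0 := by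
  haveI := CurvLib.isNoetherian k (X := X)
  by_contra h
  haveI : Nontrivial (Coh.HH X (CohB1.tensorMod G N) 0) := Module.nontrivial_of_finrank_pos (Nat.pos_of_ne_zero h)
  obtain ⟨y, hy⟩ := exists_ne (0 : Coh.HH X (CohB1.tensorMod G N) 0)
  let s : Coh.structureModule X ⟶ CohB1.tensorMod G N :=
    QCohLib.unitHom _ (DegPullLib.e0 (CohB1.tensorMod G N) y)
  have hs : s ≠ 0 := fun h0 => hy ((DegPullLib.e0 _).injective ((unitHom_eq_zero _ h0).trans (map_zero _).symm))
  obtain ⟨eN⟩ := MiscFlat6.nonempty_dualIso hN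
  let M := MiscFlat6.dual N
  have hM : PicF.IsInvertible M := MiscFlat6.dual_isInvertible hN
  haveI : (tensorLeft' N).IsEquivalence := VBP1Lib.isEquivalence_tensor (L := N) (M := MiscFlat6.dual N) eN
  haveI : (tensorLeft' N).Additive := Functor.additive_of_preserves_binary_products _
  let e : (tensorLeft' N).obj M ≅ Coh.structureModule X := eN
  let sw : CohB1.tensorMod G N ≅ (tensorLeft' N).obj G := (KFlatLib.tensSwap G N).symm
  obtain ⟨ψ, hψ⟩ := (tensorLeft' N).map_surjective (e.hom ≫ s ≫ sw.hom)
  have hψ0 : ψ ≠ 0 := fun h0 => hs (by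
    rw [h0, Functor.map_zero] at hψ
    rw [← cancel_epi e.hom, ← cancel_mono sw.hom, Category.assoc]
    simpa using hψ.symm)
  have hM1 := locFree_of_isInvertible hM
  haveI := CurveVBLib.mono_of_line (k := k) hdim hM1 hG hψ0
  have h1 := hss M 1 ψ inferInstance one_pos hM1
  have h2 := GenusZeroLib.deg_tensor k hdim hN hM
  have h3 : Curv2.deg k X (CohB1.tensorMod N M) 1 = Curv2.deg k X (Coh.structureModule X) 1 := by
    simp only [Curv2.deg]
    rw [show Curv2.euler k X (CohB1.tensorMod N M) = _ from CurvLib.euler_congr (k := k) e]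
  have h4 : Curv2.deg k X (Coh.structureModule X) 1 = 0 := by rw [Curv2.deg]; push_cast; ring
  have e1 : Curv2.deg k X M 1 = -Curv2.deg k X N 1 := by omega
  rw [e1, Nat.cast_one, mul_one] at h1
  linarith

omit [Smooth (X ↘ Spec (CommRingCat.of k))] [IsAlgClosed k] in
/-- Restricting to a point costs at most the rank. -/
theorem finrank_h0_le_add {r : ℕ} {E : X.Modules} (hE : FlatMod.IsFinLocFreeOfRank r E) (I : X.IdealSheafData)
    {L : X.Modules} (eL : L ≅ ClSub.idealMod I) (hL : PicF.IsInvertible L)
    (hd : topologicalKrullDim (I.support : Set X) ≤ 0) (hLd : Curv2.deg k X L 1 = -1) :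
    Module.finrank k (Coh.HH X E 0) ≤ Module.finrank k (Coh.HH X (CohB1.tensorMod E L) 0) + r := by
  haveI := CurvLib.isNoetherian k (X := X)
  have hEc := isCoh_of_locFree hE
  let T := (idealSeq I).map (tensorLeft' E)
  have hT : T.ShortExact := shortExact_tensor_locFree hE (idealSeq_shortExact I)
  have hQ := CurvLib.isCoh_quotMod I
  have hdQ : topologicalKrullDim (CohB1.support (ClSub.quotMod I)) ≤ 0 :=
    (Topology.IsEmbedding.inclusion (support_quotMod_subset I)).isInducing.topologicalKrullDim_le.trans hd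
  have hTd : topologicalKrullDim (CohB1.support (ParSh.resD I E)) ≤ 0 :=
    (Topology.IsEmbedding.inclusion (ParGPLib.support_resD I E)).isInducing.topologicalKrullDim_le.trans hd
  have hh : (Module.finrank k (Coh.HH X (ParSh.resD I E) 0) : ℤ) = r := by
    have h1 := euler_tensor_locFree_of_dim_zero (k := k) hQ hdQ hE
    let sw : ParSh.resD I E ≅ CohB1.tensorMod (ClSub.quotMod I) E := KFlatLib.tensSwap (ClSub.quotMod I) E
    rw [← euler_congr (k := k) sw, euler_eq_h0 (ParGPLib.isCoh_resD I hEc) hTd] at h1
    have h2 := euler_add_of_isCoh (k := k) (idealSeq_shortExact I)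
      (QCohLib.isCoh_of_iso eL (CurvLib.isCoh_of_isInvertible hL))
      (CurvLib.isCoh_of_isInvertible CurvLib.isInvertible_structureModule) hQ
    have h3 : Curv2.euler k X L = Curv2.euler k X (idealSeq I).X₁ := euler_congr (k := k) eL
    simp only [Curv2.deg] at hLd
    push_cast at hLd
    change Curv2.euler k X (Coh.structureModule X) =
      Curv2.euler k X (idealSeq I).X₁ + Curv2.euler k X (ClSub.quotMod I) at h2
    rw [h1, show Curv2.euler k X (ClSub.quotMod I) = 1 by omega, mul_one]
  haveI : Module.Finite k (Coh.HH X T.X₃ 0) :=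
    finite_HH (k := k) (ParGPLib.isCoh_resD I hEc) 0
  haveI : Module.Finite k (Coh.HH X T.X₂ 0) :=
    haveI := finite_HH (k := k) hEc 0
    Module.Finite.equiv (hIso (k := k) (unitR E) 0)
  have h := LinearMap.finrank_range_add_finrank_ker (hMap (k := k) T.g 0)
  rw [← exact₂ hT 0, LinearMap.finrank_range_of_inj (injective₀ hT)] at h
  have h2 := Submodule.finrank_le (LinearMap.range (hMap (k := k) T.g 0))
  have e1 : Module.finrank k (Coh.HH X T.X₁ 0) = Module.finrank k (Coh.HH X (CohB1.tensorMod E L) 0) :=
    (hIso (k := k) ((tensorLeft' E).mapIso eL) 0).finrank_eq.symm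
  have e2 : Module.finrank k (Coh.HH X E 0) = Module.finrank k (Coh.HH X T.X₂ 0) :=
    (hIso (k := k) (unitR E) 0).finrank_eq
  have e3 : Module.finrank k (Coh.HH X T.X₃ 0) = r := by exact_mod_cast hh
  omega

/-- The Clifford bound `h⁰ ≤ r (⌊μ⌋ + 1)`. -/
theorem finrank_h0_le {r : ℕ} {G : X.Modules} (hG : FlatMod.IsFinLocFreeOfRank r G)
    (hss : ModFun.IsSlopeSemistable k X G r) :
    ∀ (m : ℕ) (N : X.Modules), PicF.IsInvertible N →
      Curv2.deg k X G r + (r : ℤ) * Curv2.deg k X N 1 < (r : ℤ) * m →
      Module.finrank k (Coh.HH X (CohB1.tensorMod G N) 0) ≤ r * m := by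
  haveI := CurvLib.isNoetherian k (X := X)
  intro m
  induction m with
  | zero => intro N hN h; rw [finrank_h0_eq_zero hdim hG hss hN (by simpa using h)]; simp
  | succ m ih =>
    intro N hN h
    obtain ⟨x, -, hx⟩ := (isClosed_univ (X := X)).exists_closed_singleton Set.univ_nonempty
    haveI := HurwitzLib.dvr_stalk_closed (k := k) hdim hx
    obtain ⟨L, ⟨eL⟩, hL, hLd⟩ := GenusZeroLib.exists_idealMod_iso (k := k) hx hdim
    have hres : (letI : Algebra k (X.residueField x) := Curv2.resAlgebra k X x;
        Module.finrank k (X.residueField x)) = 1 := by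
      letI : Algebra k (X.residueField x) := Curv2.resAlgebra k X x
      haveI := HurwitzLib.finite_residueField (k := k) hx
      exact ((LinearEquiv.ofBijective (Algebra.linearMap k (X.residueField x))
        IsAlgClosed.algebraMap_bijective_of_isIntegral).finrank_eq).symm.trans (Module.finrank_self k)
    rw [hres, Nat.cast_one] at hLd
    have hd : topologicalKrullDim ((GenusZeroLib.ptIdeal hx).support : Set X) ≤ 0 := by
      have e : ((GenusZeroLib.ptIdeal hx).support : Set X) = {x} := by
        rw [Scheme.IdealSheafData.coe_support_vanishingIdeal]; rfl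
      rw [e]
      exact topologicalKrullDim_zero_of_discreteTopology ({x} : Set X)
    have hE := HopfIneqLib.locFree_tensor hG (locFree_of_isInvertible hN)
    rw [mul_one] at hE
    have h1 := finrank_h0_le_add (k := k) hdim hE (GenusZeroLib.ptIdeal hx) eL hL hd hLd
    have hNL : PicF.IsInvertible (CohB1.tensorMod N L) := HilbPolyLib.isInvertible_tensor hN hL
    have h2 := ih (CohB1.tensorMod N L) hNL (by
      rw [GenusZeroLib.deg_tensor k hdim hN hL, hLd]
      push_cast at h
      linarith)
    rw [(hIso (k := k) (HilbPolyLib.assocIso G N L) 0).finrank_eq] at h1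
    rw [Nat.mul_succ]
    omega

end CurveSDLib

end
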