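import Groth.Agent.CurveSDLib.Apps

/-!
# Splitting an extension of an invertible module
-/

set_option autoImplicit false
set_option linter.style.haveILetI false
set_option maxHeartbeats 1000000
universe u

open CategoryTheory CategoryTheory.Limits AlgebraicGeometry TopologicalSpace Opposite
open DevissLib CurvLib

noncomputable section

namespace CurveSDLib

variable {X : Scheme.{u}} {k : Type u} [Field k] [X.Over (Spec (CommRingCat.of k))]

variable (k) in
include k in
/-- An extension of an invertible module splits when the first cohomology of the twisted kernel vanishes. -/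
theorem isSplitEpi_of_h1 {S : ShortComplex X.Modules} (hS : S.ShortExact) {L' : X.Modules}
    (hL' : PicF.IsInvertible L') (e : CohB1.tensorMod L' S.X₃ ≅ Coh.structureModule X)
    (h1 : Subsingleton (Coh.HH X (CohB1.tensorMod L' S.X₁) 1)) : IsSplitEpi S.g := by
  haveI : (tensorLeft' L').IsEquivalence := VBP1Lib.isEquivalence_tensor (L := L') (M := S.X₃) e
  let T := S.map (tensorLeft' L')
  have hT : T.ShortExact := shortExact_tensor_locFree (locFree_of_isInvertible hL') hS
  let e' : T.X₃ ≅ Coh.structureModule X := e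
  have h1' : Subsingleton (Coh.HH X T.X₁ 1) := h1
  let y : Coh.HH X T.X₃ 0 :=
    (DegPullLib.e0 T.X₃).symm (e'.inv.app ⊤ (show Γ(X, (⊤ : X.Opens)) from 1))
  have hy : y ∈ LinearMap.ker (hDel (k := k) hT 0) := LinearMap.mem_ker.2 (h1'.elim _ _)
  rw [← exact₃ hT 0] at hy
  obtain ⟨z, hz⟩ := hy
  let σ : Coh.structureModule X ⟶ T.X₂ := QCohLib.unitHom T.X₂ (DegPullLib.e0 T.X₂ z)
  have hσ : σ ≫ T.g = e'.inv := by
    rw [QCohLib.app_unitHom_app, ← RRVanLib.e0_map (k := k) T.g z, hz, AddEquiv.apply_symm_apply]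
    refine Scheme.Modules.hom_ext _ _ fun V => ConcreteCategory.hom_ext _ _ fun r => ?_
    change (show Γ(X, V) from r) • T.X₃.presheaf.map (homOfLE (le_top : V ≤ ⊤)).op
        (e'.inv.app ⊤ (show Γ(X, (⊤ : X.Opens)) from 1)) = e'.inv.app V r
    rw [← QCohLib.app_map e'.inv, ← QCohLib.app_smul]
    refine congrArg (fun t => e'.inv.app V t) ?_
    change (show Γ(X, V) from r) * X.presheaf.map (homOfLE (le_top : V ≤ ⊤)).op (1 : Γ(X, ⊤)) = r
    rw [map_one, mul_one]
  obtain ⟨s, hs⟩ := (tensorLeft' L').map_surjective (e'.hom ≫ σ)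
  refine IsSplitEpi.mk' ⟨s, (tensorLeft' L').map_injective ?_⟩
  rw [Functor.map_comp, hs, CategoryTheory.Functor.map_id, Category.assoc]
  exact (congrArg (e'.hom ≫ ·) hσ).trans e'.hom_inv_id

end CurveSDLib

end
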